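import Groth.Agent.IntLib.Coeff
import Groth.Agent.S1604
/-!
Intersection with an effective Cartier divisor.
-/

set_option autoImplicit false
set_option backward.isDefEq.respectTransparency false
set_option linter.style.haveILetI false

universe u

open CategoryTheory CategoryTheory.Limits AlgebraicGeometry TopologicalSpace

noncomputable section

namespace Groth.Agent.IntLib

theorem dim_support_le {X : Scheme.{u}} {D : X.IdealSheafData} (hD : BlowUp.IsEffCartierIdeal D) {e : ℕ}
    (hX : topologicalKrullDim X ≤ ((e + 1 : ℕ) : WithBot ℕ∞)) :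
    topologicalKrullDim (D.support : Set X) ≤ (e : WithBot ℕ∞) := by
  by_contra h
  have h' : ¬ topologicalKrullDim (D.support : Set X) < ((e + 1 : ℕ) : WithBot ℕ∞) := fun h1 => h (dim_le_of_lt h1)
  obtain ⟨p, hp, hp'⟩ := (HilbLib.not_dim_lt_iff D.support.isClosed (e + 1)).1 h'
  obtain ⟨z, hz, hz'⟩ := Groth.Agent.S1604.exists_generalization hD (hp (Fin.last _))
  have hch : HilbLib.HasChain (e + 2) (Set.univ : Set X) := by
    refine ⟨Fin.snoc p z, fun _ => trivial, fun i j hij => ?_⟩
    induction j using Fin.lastCases with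
    | last =>
      induction i using Fin.lastCases with
      | last => exact absurd hij (lt_irrefl _)
      | cast i =>
        rw [Fin.snoc_last, Fin.snoc_castSucc]
        rcases (Fin.le_last i).eq_or_lt with rfl | hi
        · exact ⟨hz, fun eq => hz' (specializes_of_eq eq)⟩
        · exact ⟨hz.trans (hp' _ _ hi).1, fun eq => hz' ((hp' _ _ hi).1.trans (specializes_of_eq eq))⟩
    | cast j =>
      induction i using Fin.lastCases with
      | last => exact absurd hij (not_lt.2 (Fin.le_last _))
      | cast i =>
        rw [Fin.snoc_castSucc, Fin.snoc_castSucc]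
        exact hp' i j (Fin.castSucc_lt_castSucc_iff.1 hij)
  have hle : topologicalKrullDim (Set.univ : Set X) < ((e + 2 : ℕ) : WithBot ℕ∞) :=
    lt_of_le_of_lt (((Homeomorph.Set.univ X).isHomeomorph.topologicalKrullDim_eq).le.trans hX)
      (by exact_mod_cast Nat.lt_succ_self (e + 1))
  exact (HilbLib.not_dim_lt_iff isClosed_univ _).2 hch hle

theorem support_quotMod_subset {X : Scheme.{u}} (D : X.IdealSheafData) :
    CohB1.support (ClSub.quotMod D) ⊆ D.support := by
  rw [← Scheme.IdealSheafData.range_subschemeι]
  exact support_pushforward_subset D.subschemeι _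

theorem isCoh_quotMod {X : Scheme.{u}} [IsLocallyNoetherian X] (D : X.IdealSheafData) :
    Coh.IsCoh (ClSub.quotMod D) :=
  haveI : IsLocallyNoetherian D.subscheme := LocallyOfFiniteType.isLocallyNoetherian D.subschemeι
  DevLib.isCoh_pushforward_closed D.subschemeι (DevLib.isCoh_structureModule _)

variable (k : Type u) [Field k] {X : Scheme.{u}} [X.Over (Spec (CommRingCat.of k))]
  [IsProper (X ↘ Spec (CommRingCat.of k))]

theorem pairing_quotMod {D : X.IdealSheafData} (hI : PicF.IsInvertible (ClSub.idealMod D)) (z : PicRing X) :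
    pairing k (ClSub.quotMod D) z = pairing k (Coh.structureModule X) (dif hI * z) := by
  haveI := EulerIneqLib.isNoetherian_proper (X := X) k
  haveI := Groth.Agent.SerreAff.epi_unitToPush D.subschemeι
  haveI : Mono (ClSub.idealModι D) := inferInstanceAs (Mono (kernel.ι _))
  let S : ShortComplex X.Modules := ShortComplex.mk (ClSub.idealModι D) (ClSub.toSubscheme D) (kernel.condition _)
  have hS : S.ShortExact := ShortComplex.ShortExact.mk'
    (ShortComplex.exact_of_f_is_kernel _ (kernelIsKernel _)) (inferInstanceAs (Mono (ClSub.idealModι D)))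
    (inferInstanceAs (Epi (ClSub.toSubscheme D)))
  have h : pairing k (Coh.structureModule X) z = pairing k (ClSub.idealMod D) z + pairing k (ClSub.quotMod D) z :=
    pairing_shortExact k hS (CurveLib.isCoh_of_isInvertible hI)
      (CurveLib.isCoh_of_isInvertible ParaFLib.isInvertible_structureModule) (isCoh_quotMod D) z
  rw [dif, sub_mul, one_mul, map_sub, pairing_of_mul, pairing_iso k (AmpleLib.unitL (ClSub.idealMod D))]
  linarith

/-- For an inverse pair `L ⊗ M ≅ O`, modulo one more power of `dif`, `dif M` is `- dif L`. -/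
theorem pairing_dif_inv {L M : X.Modules} (hL : PicF.IsInvertible L) (hM : PicF.IsInvertible M)
    (e : CohB1.tensorMod L M ≅ Coh.structureModule X) {r : ℕ} {F : X.Modules} (hF : Coh.IsCoh F)
    (hr : topologicalKrullDim (CohB1.support F) < ((r + 2 : ℕ) : WithBot ℕ∞)) (N : Fin r → X.Modules)
    (hN : ∀ i, PicF.IsInvertible (N i)) :
    pairing k F (dif hM * ∏ i, dif (hN i)) = - pairing k F (dif hL * ∏ i, dif (hN i)) := by
  set l := MonoidAlgebra.of ℤ (Inv X) (inv' hM) with hl
  have hinv : l * (1 - dif hL) = 1 := by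
    rw [dif, sub_sub_cancel, hl, ← map_mul,
      show inv' hM * inv' hL = (1 : Inv X) from Subtype.ext (mk_congr (AmpleLib.comm M L ≪≫ e)), map_one]
  have hN2 : ∀ i, PicF.IsInvertible (Fin.cons (α := fun _ => X.Modules) L (Fin.cons (α := fun _ => X.Modules) L N) i) :=
    fun i => Fin.cases hL (fun j => Fin.cases hL hN j) i
  have h0 := pairing_mul_prod_eq_zero k hF hr _ hN2 l
  rw [Fin.prod_univ_succ, Fin.prod_univ_succ] at h0
  have e1 : dif hM * ∏ i, dif (hN i) =
      -(dif hL * ∏ i, dif (hN i)) - l * (dif hL * (dif hL * ∏ i, dif (hN i))) := by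
    rw [show dif hM = 1 - l from rfl]
    linear_combination (-(∏ i, dif (hN i)) * (1 + dif hL)) * hinv
  rw [e1, map_sub, map_neg]
  exact (congrArg (fun x => -pairing k F (dif hL * ∏ i, dif (hN i)) - x) h0).trans (sub_zero _)

end Groth.Agent.IntLib
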