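import Groth.Agent.IntLib.Kill
import Groth.Agent.CurveLib.Components
import Groth.Agent.ProperFin.PushHH
import Groth.Agent.DCohLib.ProjClosed
import Groth.Prelude.Def_Pic13
/-!
Euler characteristics of direct images along affine morphisms.
-/

set_option autoImplicit false
set_option backward.isDefEq.respectTransparency false
set_option linter.style.haveILetI false

universe u

open CategoryTheory CategoryTheory.Limits AlgebraicGeometry TopologicalSpace
open Groth.Agent.PullbackMod Groth.Agent.DCohLib

noncomputable section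

namespace Groth.Agent.IntLib

variable (k : Type u) [Field k] {X Z : Scheme.{u}} [X.Over (Spec (CommRingCat.of k))]
  [Z.Over (Spec (CommRingCat.of k))] (g : Z ⟶ X) [IsAffineHom g]

omit [IsAffineHom g] in
theorem toGlobal_comp (hg : g ≫ (X ↘ Spec (CommRingCat.of k)) = Z ↘ Spec (CommRingCat.of k)) :
    Coh.toGlobal (Z ↘ Spec (CommRingCat.of k)) =
      (ProperFin.gTop g).comp (Coh.toGlobal (X ↘ Spec (CommRingCat.of k))) := by
  rw [← hg]
  rfl

theorem finrank_push (hg : g ≫ (X ↘ Spec (CommRingCat.of k)) = Z ↘ Spec (CommRingCat.of k))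
    (M : Z.Modules) [Coh.IsQCoh M] (n : ℕ) :
    Module.finrank k (Coh.HH X ((Scheme.Modules.pushforward g).obj M) n) = Module.finrank k (Coh.HH Z M n) := by
  obtain ⟨e, he⟩ := ProperFin.exists_pushEquiv g (M := M)
    (fun _ hV m => CohBase.affine_vanishing M (hV.preimage g) m) n
  let L : Coh.HH Z M n ≃ₗ[k] Coh.HH X ((Scheme.Modules.pushforward g).obj M) n :=
    { e with
      map_smul' := fun a x => by
        show e (Coh.toGlobal (Z ↘ Spec (CommRingCat.of k)) a • x) =
          Coh.toGlobal (X ↘ Spec (CommRingCat.of k)) a • e x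
        rw [toGlobal_comp k g hg]
        exact he _ x }
  exact L.finrank_eq.symm

theorem euler_push (hg : g ≫ (X ↘ Spec (CommRingCat.of k)) = Z ↘ Spec (CommRingCat.of k))
    (M : Z.Modules) [Coh.IsQCoh M] :
    Curv2.euler k X ((Scheme.Modules.pushforward g).obj M) = Curv2.euler k Z M :=
  finsum_congr fun i => by rw [finrank_push k g hg]

/-- `χ(i_* M ⊗ G) = χ(M ⊗ i^* G)`. -/
theorem euler_push_tensor [IsProper (X ↘ Spec (CommRingCat.of k))] [IsLocallyNoetherian X] {i : Z ⟶ X} [IsClosedImmersion i]
    (hi : i ≫ (X ↘ Spec (CommRingCat.of k)) = Z ↘ Spec (CommRingCat.of k))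
    {M : Z.Modules} (hM : Coh.IsCoh M) {G : X.Modules} (hG : PicF.IsInvertible G) :
    Curv2.euler k X (CohB1.tensorMod ((Scheme.Modules.pushforward i).obj M) G) =
      Curv2.euler k Z (CohB1.tensorMod M ((Scheme.Modules.pullback i).obj G)) := by
  haveI : IsLocallyNoetherian Z := LocallyOfFiniteType.isLocallyNoetherian i
  haveI : Coh.IsQCoh (tmod M ((Scheme.Modules.pullback i).obj G)) :=
    (CurveLib.isCoh_tmod hM (CurveLib.isCoh_of_isInvertible (AmpleLib.isInvertible_pullback i hG))).1
  exact (CurveLib.euler_iso (K := k) (projIso i M G)).trans (euler_push k i hi _)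

end Groth.Agent.IntLib
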