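import Groth.Agent.IntLib.Push
/-!
The mixed coefficient of a Snapper polynomial as a pairing.
-/

set_option autoImplicit false
set_option backward.isDefEq.respectTransparency false
set_option linter.style.haveILetI false

universe u

open CategoryTheory CategoryTheory.Limits AlgebraicGeometry

noncomputable section

namespace Groth.Agent.IntLib

theorem mvPoly_eq_of_nat {r : ℕ} {P Q : MvPolynomial (Fin r) ℚ}
    (h : ∀ n : Fin r → ℕ, MvPolynomial.eval (fun i => (n i : ℚ)) P = MvPolynomial.eval (fun i => (n i : ℚ)) Q) :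
    P = Q := by
  refine MvPolynomial.funext_set (fun _ => Set.range (Nat.cast : ℕ → ℚ))
    (fun _ => Set.infinite_range_of_injective Nat.cast_injective) fun x hx => ?_
  choose n hn using fun i => hx i (Set.mem_univ i)
  rw [show x = fun i => (n i : ℚ) from funext fun i => (hn i).symm]
  exact h n

variable (k : Type u) [Field k] {X : Scheme.{u}} [X.Over (Spec (CommRingCat.of k))]
  [IsProper (X ↘ Spec (CommRingCat.of k))]

theorem coeff_eq_pairing {r : ℕ} {F : X.Modules} (hF : Coh.IsCoh F)
    (hr : topologicalKrullDim (CohB1.support F) ≤ r) (M : Fin r → X.Modules) (hM : ∀ i, PicF.IsInvertible (M i))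
    (P : MvPolynomial (Fin r) ℚ) (hP : ∀ n : Fin r → ℕ,
      (Curv2.euler k X (Curv2.tensorPows F r M n) : ℚ) = MvPolynomial.eval (fun i => (n i : ℚ)) P) :
    MvPolynomial.coeff (Finsupp.equivFunOnFinite.symm fun _ : Fin r => 1) P =
      (-1) ^ r * (pairing k F (∏ i, dif (hM i)) : ℚ) := by
  obtain ⟨P', hdeg, hP'⟩ := HilbLib.snapper k r M hM F hF r hr
  obtain rfl : P = P' := mvPoly_eq_of_nat fun n => (hP n).symm.trans (hP' n)
  rw [pairing_prod_eq_coeff k F M hM P hdeg hP, ← mul_assoc, ← mul_pow, neg_one_mul, neg_neg, one_pow, one_mul]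

theorem pairing_one (F : X.Modules) : pairing k F 1 = Curv2.euler k X F := by
  rw [← map_one (MonoidAlgebra.of ℤ (Inv X)), pairing_of, Submonoid.coe_one, mul_one, chiC_mk]

theorem pairing_dif (F : X.Modules) {M : X.Modules} (hM : PicF.IsInvertible M) :
    pairing k F (dif hM) = Curv2.euler k X F - Curv2.euler k X (CohB1.tensorMod F M) := by
  rw [dif, map_sub, pairing_one, pairing_of]
  rfl

omit [Field k] [X.Over (Spec (CommRingCat.of k))] [IsProper (X ↘ Spec (CommRingCat.of k))] in
theorem support_pushforward_subset {Z : Scheme.{u}} (i : Z ⟶ X) [IsClosedImmersion i] (M : Z.Modules) :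
    CohB1.support ((Scheme.Modules.pushforward i).obj M) ⊆ Set.range i := fun y hy => by
  by_contra h
  exact hy (DCohLib.subsingleton_stalk_pushforward i M y h)

end Groth.Agent.IntLib
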