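import Mathlib
/-!
Alternating sums of values of polynomials, and inverse binomial series.
-/

set_option autoImplicit false

namespace Groth.Agent.IntLib

theorem alt_sum_eval {r : ℕ} (P : MvPolynomial (Fin r) ℚ) (hP : P.totalDegree ≤ r) :
    ∑ I : Finset (Fin r), (-1 : ℚ) ^ I.card * MvPolynomial.eval (fun i => if i ∈ I then (1 : ℚ) else 0) P =
      (-1) ^ r * MvPolynomial.coeff (Finsupp.equivFunOnFinite.symm fun _ : Fin r => 1) P := by
  classical
  set one := Finsupp.equivFunOnFinite.symm fun _ : Fin r => 1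
  simp only [MvPolynomial.eval_eq, Finset.mul_sum]
  rw [Finset.sum_comm]
  have key : ∀ s : Fin r →₀ ℕ, ∑ I : Finset (Fin r), (-1 : ℚ) ^ I.card * ∏ i ∈ s.support, (if i ∈ I then (1 : ℚ) else 0) ^ s i
      = if s.support = Finset.univ then (-1) ^ r else 0 := fun s => by
    have h : ∀ I : Finset (Fin r), (-1 : ℚ) ^ I.card * ∏ i ∈ s.support, (if i ∈ I then (1 : ℚ) else 0) ^ s i =
        (∏ _i ∈ I, (-1 : ℚ)) * ∏ i ∈ Finset.univ \ I, (if i ∈ s.support then (0 : ℚ) else 1) := fun I => by
      rw [Finset.prod_const]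
      congr 1
      by_cases hsub : s.support ⊆ I
      · rw [Finset.prod_eq_one fun i hi => by rw [if_pos (hsub hi), one_pow],
          Finset.prod_eq_one fun i hi => if_neg fun h => (Finset.mem_sdiff.1 hi).2 (hsub h)]
      · obtain ⟨i, hi, hiI⟩ := Finset.not_subset.1 hsub
        rw [Finset.prod_eq_zero hi (by rw [if_neg hiI, zero_pow (Finsupp.mem_support_iff.1 hi)]),
          Finset.prod_eq_zero (f := fun j => if j ∈ s.support then (0 : ℚ) else 1) (Finset.mem_sdiff.2 ⟨Finset.mem_univ i, hiI⟩) (if_pos hi)]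
    simp only [h]
    rw [← Finset.powerset_univ, ← Finset.prod_add]
    by_cases hs : s.support = Finset.univ
    · rw [if_pos hs]
      simp [hs]
    · rw [if_neg hs]
      obtain ⟨i, hi⟩ : ∃ i, i ∉ s.support := by
        by_contra h'; push_neg at h'; exact hs (Finset.eq_univ_of_forall h')
      exact Finset.prod_eq_zero (Finset.mem_univ i) (by rw [if_neg hi]; ring)
  rw [Finset.sum_eq_single one]
  · rw [show one.support = Finset.univ from Finset.eq_univ_of_forall fun i => by
      simp [one]]
    have := key one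
    rw [show one.support = Finset.univ from Finset.eq_univ_of_forall fun i => by simp [one], if_pos rfl] at this
    rw [← this, Finset.sum_mul]
    exact Finset.sum_congr rfl fun I _ => by ring
  · intro s hs hne
    have hsupp : s.support ≠ Finset.univ := fun h => hne (Finsupp.ext fun i => by
      have hle : (s.sum fun _ e => e) ≤ r := (MvPolynomial.le_totalDegree hs).trans hP
      have h1 : ∀ j, 1 ≤ s j := fun j => Nat.one_le_iff_ne_zero.2 (Finsupp.mem_support_iff.1 (h ▸ Finset.mem_univ j))
      rw [Finsupp.sum, h] at hle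
      by_contra hi
      have hlt : ∑ _j : Fin r, 1 < ∑ j, s j := Finset.sum_lt_sum (fun j _ => h1 j)
        ⟨i, Finset.mem_univ i, lt_of_le_of_ne (h1 i) (fun e => hi (by simp [one, ← e]))⟩
      simp at hlt
      omega)
    have := key s
    rw [if_neg hsupp] at this
    calc _ = MvPolynomial.coeff s P * ∑ I : Finset (Fin r),
          (-1 : ℚ) ^ I.card * ∏ i ∈ s.support, (if i ∈ I then (1 : ℚ) else 0) ^ s i := by
            rw [Finset.mul_sum]; exact Finset.sum_congr rfl fun I _ => by ring
      _ = 0 := by rw [this, mul_zero]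
  · intro h
    rw [MvPolynomial.notMem_support_iff.1 h]
    simp

variable {R : Type*} [CommRing R]

theorem telescope (u : R) (m : ℕ) : ∀ r : ℕ,
    (1 - u) * ∑ i ∈ Finset.range (r + 1), ((m + i).choose i : R) * u ^ i =
      ∑ i ∈ Finset.range (r + 1), ((m + i - 1).choose i : R) * u ^ i - ((m + r).choose r : R) * u ^ (r + 1) := by
  intro r
  induction r with
  | zero => simp
  | succ r ih =>
    rw [Finset.sum_range_succ, mul_add, ih, Finset.sum_range_succ (n := r + 1)]
    have e : ((m + (r + 1)).choose (r + 1) : R) = ((m + r).choose r : R) + ((m + (r + 1) - 1).choose (r + 1) : R) := by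
      rw [← Nat.cast_add, show m + (r + 1) = m + r + 1 by omega, Nat.choose_succ_succ, Nat.add_sub_cancel]
    rw [e]
    ring

theorem inv_pow_expansion {u l : R} (h : l * (1 - u) = 1) (r : ℕ) : ∀ m : ℕ, ∃ z : R,
    l ^ m = ∑ i ∈ Finset.range (r + 1), ((m + i - 1).choose i : R) * u ^ i + z * u ^ (r + 1) := by
  intro m
  induction m with
  | zero =>
    refine ⟨0, ?_⟩
    rw [zero_mul, add_zero, pow_zero, Finset.sum_eq_single 0]
    · simp
    · intro i _ hi
      rw [Nat.choose_eq_zero_of_lt (by omega), Nat.cast_zero, zero_mul]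
    · simp
  | succ m ih =>
    obtain ⟨z, hz⟩ := ih
    refine ⟨l * (((m + r).choose r : R) + z), ?_⟩
    have e : ∑ i ∈ Finset.range (r + 1), ((m + 1 + i - 1).choose i : R) * u ^ i =
        ∑ i ∈ Finset.range (r + 1), ((m + i).choose i : R) * u ^ i :=
      Finset.sum_congr rfl fun i _ => by rw [show m + 1 + i - 1 = m + i by omega]
    rw [e, pow_succ', hz]
    have t := telescope u m r
    linear_combination -l * t + (∑ i ∈ Finset.range (r + 1), ((m + i).choose i : R) * u ^ i) * h

end Groth.Agent.IntLib
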