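import Groth.Agent.IntLib.Cls
import Groth.Agent.IntLib.Alg
import Groth.Agent.HilbLib.Multi
/-!
Intersection numbers as a functional on the group ring of invertible classes.
-/

set_option autoImplicit false
set_option backward.isDefEq.respectTransparency false
set_option linter.style.haveILetI false

universe u

open CategoryTheory CategoryTheory.Limits AlgebraicGeometry

noncomputable section

namespace Groth.Agent.IntLib

variable (k : Type u) [Field k] {X : Scheme.{u}} [X.Over (Spec (CommRingCat.of k))]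
  [IsProper (X ↘ Spec (CommRingCat.of k))]

/-- The group ring of invertible classes. -/
abbrev PicRing (X : Scheme.{u}) : Type _ := MonoidAlgebra ℤ (Inv X)

/-- `1 - [M]`. -/
def dif {M : X.Modules} (hM : PicF.IsInvertible M) : PicRing X := 1 - MonoidAlgebra.of ℤ _ (inv' hM)

/-- The Euler characteristic of a class. -/
def chiC (c : MCls X) : ℤ :=
  Quotient.liftOn c (Curv2.euler k X) fun _ _ ⟨e⟩ => CurveLib.euler_iso (K := k) e

theorem chiC_mk (M : X.Modules) : chiC k (mk M) = Curv2.euler k X M := rfl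

/-- `g ↦ χ(F ⊗ g)` extended linearly. -/
def pairing (F : X.Modules) : PicRing X →+ ℤ :=
  (Finsupp.liftAddHom fun g : Inv X =>
    (AddMonoidHom.mulRight (chiC k (mk F * g.1)) : ℤ →+ ℤ)).comp MonoidAlgebra.coeffAddEquiv.toAddMonoidHom

theorem pairing_of (F : X.Modules) (g : Inv X) :
    pairing k F (MonoidAlgebra.of ℤ _ g) = chiC k (mk F * g.1) := by
  simp [pairing]

theorem pairing_of_mul (F : X.Modules) {G : X.Modules} (hG : PicF.IsInvertible G) (w : PicRing X) :
    pairing k F (MonoidAlgebra.of ℤ _ (inv' hG) * w) = pairing k (CohB1.tensorMod F G) w := by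
  induction w using MonoidAlgebra.induction_on with
  | of g => rw [← map_mul, pairing_of, pairing_of, Submonoid.coe_mul, ← mul_assoc, mk_tensor]; rfl
  | add a b ha hb => rw [mul_add, map_add, map_add, ha, hb]
  | smul n a ha => rw [mul_smul_comm, map_zsmul, map_zsmul, ha]

theorem pairing_prod {r : ℕ} (F : X.Modules) (M : Fin r → X.Modules) (hM : ∀ i, PicF.IsInvertible (M i)) :
    pairing k F (∏ i, dif (hM i)) = ∑ I : Finset (Fin r), (-1 : ℤ) ^ I.card *
      Curv2.euler k X (CohB1.tensorMod (FGA.tensorList ((I.sort (· ≤ ·)).map M)) F) := by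
  classical
  simp only [dif, Finset.prod_sub, Finset.prod_const_one, mul_one, Finset.powerset_univ, map_sum]
  refine Finset.sum_congr rfl fun I _ => ?_
  rw [← map_prod, show ((-1 : PicRing X) ^ I.card * MonoidAlgebra.of ℤ _ (∏ i ∈ I, inv' (hM i))) =
      ((-1 : ℤ) ^ I.card) • MonoidAlgebra.of ℤ _ (∏ i ∈ I, inv' (hM i)) by
    rw [zsmul_eq_mul]; push_cast; rfl, map_zsmul, pairing_of, smul_eq_mul, Submonoid.coe_finsetProd]
  congr 1
  rw [← chiC_mk, mk_tensor, mk_finset_list, mul_comm]
  rfl

theorem intNum_eq {d r : ℕ} (hd : topologicalKrullDim X ≤ d) (F : X.Modules) (M : Fin r → X.Modules)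
    (hM : ∀ i, PicF.IsInvertible (M i)) :
    FGA.intNum k X d M F = pairing k F (∏ i, dif (hM i)) := by
  rw [pairing_prod]
  exact Finset.sum_congr rfl fun I _ => by rw [HilbLib.eulerCharLE_eq k _ hd]

/-- The mixed coefficient. -/
theorem pairing_prod_eq_coeff {r : ℕ} (F : X.Modules) (M : Fin r → X.Modules) (hM : ∀ i, PicF.IsInvertible (M i))
    (P : MvPolynomial (Fin r) ℚ) (hdeg : P.totalDegree ≤ r) (hP : ∀ n : Fin r → ℕ,
      (Curv2.euler k X (Curv2.tensorPows F r M n) : ℚ) = MvPolynomial.eval (fun i => (n i : ℚ)) P) :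
    (pairing k F (∏ i, dif (hM i)) : ℚ) =
      (-1) ^ r * MvPolynomial.coeff (Finsupp.equivFunOnFinite.symm fun _ : Fin r => 1) P := by
  classical
  rw [pairing_prod, ← alt_sum_eval P hdeg]
  push_cast
  refine Finset.sum_congr rfl fun I _ => ?_
  congr 1
  have h := hP fun i => if i ∈ I then 1 else 0
  have e : mk (Curv2.tensorPows F r M fun i => if i ∈ I then 1 else 0) =
      mk (CohB1.tensorMod (FGA.tensorList ((I.sort (· ≤ ·)).map M)) F) := by
    rw [mk_tensorPows, mk_tensor, mk_finset_list, mul_comm (∏ i ∈ I, _)]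
    congr 1
    simp only [pow_ite, pow_one, pow_zero, Finset.prod_ite_mem, Finset.univ_inter]
  obtain ⟨i⟩ := mk_eq_mk.1 e
  rw [← CurveLib.euler_iso (K := k) i, h]
  exact congrArg (fun f => MvPolynomial.eval f P) (funext fun i => by split_ifs <;> simp)

omit [Field k] [X.Over (Spec (CommRingCat.of k))] [IsProper (X ↘ Spec (CommRingCat.of k))] in
theorem dim_le_of_lt {x : WithBot ℕ∞} {q : ℕ} (h : x < ((q + 1 : ℕ) : WithBot ℕ∞)) : x ≤ (q : WithBot ℕ∞) := by
  induction x with
  | bot => exact bot_le
  | coe a =>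
    have h1 : a < ((q + 1 : ℕ) : ℕ∞) := WithBot.coe_lt_coe.1 h
    push_cast at h1
    exact WithBot.coe_le_coe.2 (Order.le_of_lt_add_one h1)

theorem pairing_prod_eq_zero {r : ℕ} {F : X.Modules} (hF : Coh.IsCoh F)
    (hr : topologicalKrullDim (CohB1.support F) < (r : WithBot ℕ∞)) (M : Fin r → X.Modules)
    (hM : ∀ i, PicF.IsInvertible (M i)) : pairing k F (∏ i, dif (hM i)) = 0 := by
  cases r with
  | zero =>
    obtain ⟨P, hP, he⟩ := HilbLib.exists_poly k (L := Coh.structureModule X)
      ParaFLib.isInvertible_structureModule 0 F hF hr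
    have h0 := he 0
    have hP0 : P = 0 := Polynomial.degree_eq_bot.1 (by
      cases h : P.degree with
      | bot => rfl
      | coe a => rw [h] at hP; exact absurd (WithBot.coe_lt_coe.1 hP) (Nat.not_lt_zero a))
    rw [hP0, Polynomial.eval_zero] at h0
    have h1 : Curv2.euler k X (ShStab.twist X (Coh.structureModule X) F 0) = 0 := Int.cast_eq_zero.1 h0
    rw [Finset.univ_eq_empty, Finset.prod_empty, ← map_one (MonoidAlgebra.of ℤ (Inv X)), pairing_of,
      Submonoid.coe_one, mul_one, chiC_mk, ← CurveLib.euler_iso (K := k) (AmpleLib.unitR F)]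
    exact h1
  | succ q =>
    obtain ⟨P, hdeg, hP⟩ := HilbLib.snapper k (q + 1) M hM F hF q (dim_le_of_lt hr)
    have h := pairing_prod_eq_coeff k F M hM P (hdeg.trans q.le_succ) hP
    rw [MvPolynomial.coeff_eq_zero_of_totalDegree_lt, mul_zero] at h
    · exact_mod_cast h
    · calc P.totalDegree ≤ q := hdeg
        _ < _ := by
          rw [show (Finsupp.equivFunOnFinite.symm fun _ : Fin (q + 1) => 1).support = Finset.univ from
            Finset.eq_univ_of_forall fun i => by simp]
          simp

theorem pairing_mul_prod_eq_zero {r : ℕ} {F : X.Modules} (hF : Coh.IsCoh F)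
    (hr : topologicalKrullDim (CohB1.support F) < (r : WithBot ℕ∞)) (M : Fin r → X.Modules)
    (hM : ∀ i, PicF.IsInvertible (M i)) (z : PicRing X) : pairing k F (z * ∏ i, dif (hM i)) = 0 := by
  haveI := EulerIneqLib.isNoetherian_proper (X := X) k
  induction z using MonoidAlgebra.induction_on with
  | of g =>
    obtain ⟨c, G, hG, rfl⟩ := g
    show pairing k F (MonoidAlgebra.of ℤ _ (inv' hG) * _) = 0
    rw [pairing_of_mul]
    exact pairing_prod_eq_zero k (CurveLib.isCoh_tmod hF (CurveLib.isCoh_of_isInvertible hG))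
      (lt_of_eq_of_lt (congrArg (fun s : Set X => topologicalKrullDim s) (HilbLib.support_tensor hG F)) hr) M hM
  | add a b ha hb => rw [add_mul, map_add, ha, hb, add_zero]
  | smul n a ha => rw [smul_mul_assoc, map_zsmul, ha, smul_zero]

end Groth.Agent.IntLib
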