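import Groth.Agent.HilbLib.Basic
import Groth.Agent.AmpleLib.Pullback
import Groth.Prelude.Def_Curv2
import Groth.Prelude.Def_FGA
/-!
The monoid of isomorphism classes of modules under the tensor product.
-/

set_option autoImplicit false
set_option backward.isDefEq.respectTransparency false
set_option linter.style.haveILetI false

universe u

open CategoryTheory CategoryTheory.Limits AlgebraicGeometry

noncomputable section

namespace Groth.Agent.IntLib

/-- Isomorphism classes of modules. -/
def MCls (X : Scheme.{u}) : Type _ := Quotient (isIsomorphicSetoid X.Modules)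

variable {X : Scheme.{u}}

/-- The class of a module. -/
def mk (M : X.Modules) : MCls X := Quotient.mk _ M

theorem mk_eq_mk {M N : X.Modules} : mk M = mk N ↔ Nonempty (M ≅ N) := Quotient.eq

theorem mk_congr {M N : X.Modules} (e : M ≅ N) : mk M = mk N := Quotient.sound ⟨e⟩

instance : CommMonoid (MCls X) where
  mul := Quotient.map₂ CohB1.tensorMod fun _ _ ⟨e⟩ _ _ ⟨f⟩ => ⟨AmpleLib.tIso e f⟩
  one := mk (Coh.structureModule X)
  mul_assoc := by
    rintro ⟨a⟩ ⟨b⟩ ⟨c⟩
    exact mk_congr (AmpleLib.assoc a b c)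
  one_mul := by rintro ⟨a⟩; exact mk_congr (AmpleLib.unitL a)
  mul_one := by rintro ⟨a⟩; exact mk_congr (AmpleLib.unitR a)
  mul_comm := by rintro ⟨a⟩ ⟨b⟩; exact mk_congr (AmpleLib.comm a b)

theorem mk_tensor (M N : X.Modules) : mk (CohB1.tensorMod M N) = mk M * mk N := rfl

theorem mk_structureModule : mk (Coh.structureModule X) = 1 := rfl

theorem mk_tensorPow (L : X.Modules) : ∀ n : ℕ, mk (CohB1.tensorPow L n) = mk L ^ n
  | 0 => rfl
  | n + 1 => by rw [pow_succ, ← mk_tensorPow L n]; rfl

theorem mk_tensorList : ∀ l : List X.Modules, mk (FGA.tensorList l) = (l.map mk).prod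
  | [] => rfl
  | a :: l => by rw [List.map_cons, List.prod_cons, ← mk_tensorList l]; rfl

theorem mk_tensorPows : ∀ (r : ℕ) (F : X.Modules) (L : Fin r → X.Modules) (n : Fin r → ℕ),
    mk (Curv2.tensorPows F r L n) = mk F * ∏ i, mk (L i) ^ n i
  | 0, F, L, n => (mul_one _).symm
  | r + 1, F, L, n => by
    rw [Fin.prod_univ_castSucc, ← mul_assoc, ← mk_tensorPows r F _ _, ← mk_tensorPow]
    rfl

theorem mk_finset_list {ι : Type} [LinearOrder ι] (M : ι → X.Modules) (I : Finset ι) :
    mk (FGA.tensorList ((I.sort (· ≤ ·)).map M)) = ∏ i ∈ I, mk (M i) := by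
  rw [mk_tensorList, List.map_map, ← Multiset.prod_coe, ← Multiset.map_coe, Finset.sort_eq]
  rfl

/-- The invertible classes. -/
def Inv (X : Scheme.{u}) : Submonoid (MCls X) where
  carrier := {c | ∃ L, PicF.IsInvertible L ∧ mk L = c}
  mul_mem' := by
    rintro _ _ ⟨L, hL, rfl⟩ ⟨M, hM, rfl⟩
    exact ⟨_, AmpleLib.isInvertible_tensor hL hM, rfl⟩
  one_mem' := ⟨_, ParaFLib.isInvertible_structureModule, rfl⟩

/-- The class of an invertible module. -/
def inv' {L : X.Modules} (hL : PicF.IsInvertible L) : Inv X := ⟨mk L, L, hL, rfl⟩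

/-- Inverse image of classes. -/
def pullCls {X' : Scheme.{u}} (f : X' ⟶ X) : MCls X →* MCls X' where
  toFun := Quotient.map (Scheme.Modules.pullback f).obj fun _ _ ⟨e⟩ => ⟨(Scheme.Modules.pullback f).mapIso e⟩
  map_one' := mk_congr (AmpleLib.pullO f)
  map_mul' := by rintro ⟨a⟩ ⟨b⟩; exact mk_congr (AmpleLib.pullTensor f a b)

theorem pullCls_mk {X' : Scheme.{u}} (f : X' ⟶ X) (M : X.Modules) :
    pullCls f (mk M) = mk ((Scheme.Modules.pullback f).obj M) := rfl

end Groth.Agent.IntLib
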