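import Groth.Agent.IntLib.Divisor
import Groth.Agent.AssLib.Morph
import Groth.Agent.AssLib.Push
import Groth.Agent.RelTildeLib.Morph
/-!
Tensoring the sequence of an effective divisor with a module without associated points on it.
-/

set_option autoImplicit false
set_option backward.isDefEq.respectTransparency false
set_option linter.style.haveILetI false

universe u

open CategoryTheory CategoryTheory.Limits AlgebraicGeometry TopologicalSpace
open Groth.Agent.PullbackMod Groth.Agent.DCohLib
open scoped TensorProduct

noncomputable section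

namespace Groth.Agent.IntLib

variable (k : Type u) [Field k] {X : Scheme.{u}} [X.Over (Spec (CommRingCat.of k))]
  [IsProper (X ↘ Spec (CommRingCat.of k))]

theorem pairing_tensor_quotMod {D : X.IdealSheafData} (hI : PicF.IsInvertible (ClSub.idealMod D))
    {F : X.Modules} (hF : Coh.IsCoh F) (hass : ∀ x ∈ D.support, ¬ Curv2.IsAssPoint F x) (z : PicRing X) :
    pairing k (CohB1.tensorMod F (ClSub.quotMod D)) z = pairing k F (dif hI * z) := by
  haveI := EulerIneqLib.isNoetherian_proper (X := X) k
  haveI := Groth.Agent.SerreAff.epi_unitToPush D.subschemeι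
  set ι := ClSub.idealModι D with hι
  haveI : Mono ι := inferInstanceAs (Mono (kernel.ι _))
  let S : ShortComplex X.Modules := ShortComplex.mk ι (ClSub.toSubscheme D) (kernel.condition _)
  have hS : S.ShortExact := ShortComplex.ShortExact.mk'
    (ShortComplex.exact_of_f_is_kernel _ (kernelIsKernel _)) (inferInstanceAs (Mono ι))
    (inferInstanceAs (Epi (ClSub.toSubscheme D)))
  have hIc : Coh.IsCoh (ClSub.idealMod D) := CurveLib.isCoh_of_isInvertible hI
  have hOc : Coh.IsCoh (Coh.structureModule X) := CurveLib.isCoh_of_isInvertible ParaFLib.isInvertible_structureModule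
  have hIF : Coh.IsCoh (tmod (ClSub.idealMod D) F) := CurveLib.isCoh_tmod hIc hF
  have hOF : Coh.IsCoh (tmod (Coh.structureModule X) F) := CurveLib.isCoh_tmod hOc hF
  have hQF : Coh.IsCoh (tmod (ClSub.quotMod D) F) := CurveLib.isCoh_tmod (isCoh_quotMod D) hF
  haveI := hIF.1
  have hmono : Mono (CurveLib.tmap ι F) := by
    refine RelTildeLib.mono_of_app_injective _ (AssLib.app_injective_of _ fun x => ?_)
    by_cases hx : x ∈ D.support
    · refine Or.inr fun hw => hass x hx ?_
      have hw' := (AssLib.isWeakAssPoint_iff_isAssPoint _ x).1 hw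
      obtain ⟨e⟩ := HilbLib.nonempty_stalk_equiv hI F x
      let e' : (tmod (ClSub.idealMod D) F).presheaf.stalk x ≃ₗ[X.presheaf.stalk x] F.presheaf.stalk x :=
        LinearEquiv.ofBijective _ (HilbLib.stalkLin_bijective_of_iso (AmpleLib.comm (ClSub.idealMod D) F) x) ≪≫ₗ e
      exact IsAssociatedPrime.map_of_injective hw' (f := e'.toLinearMap) e'.injective
    · refine Or.inl ?_
      have hsurj : Function.Surjective (stalkLin ι x) := fun z => (DevLib.stalk_exact hS x z).1
        ((not_not.1 fun h => hx (support_quotMod_subset D h) : Subsingleton ((ClSub.quotMod D).presheaf.stalk x)).elim _ _)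
      have hb : Function.Bijective (stalkLin ι x) := ⟨(mono_iff_stalk ι).1 inferInstance x, hsurj⟩
      intro a b hab
      obtain ⟨a, rfl⟩ := (stalkTensor x (ClSub.idealMod D) F).surjective a
      obtain ⟨b, rfl⟩ := (stalkTensor x (ClSub.idealMod D) F).surjective b
      rw [stalkTensor_natural_left, stalkTensor_natural_left] at hab
      exact congrArg _ (((LinearEquiv.ofBijective _ hb).rTensor (F.presheaf.stalk x)).injective
        ((stalkTensor x _ F).injective hab))
  have hT : (S.map (CurveLib.tensR F)).ShortExact :=
    { exact := hS.exact.map_of_epi_of_preservesCokernel _ hS.epi_g inferInstance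
      mono_f := hmono
      epi_g := (haveI := hS.epi_g; (inferInstance : Epi ((CurveLib.tensR F).map S.g))) }
  have h : pairing k (tmod (Coh.structureModule X) F) z =
      pairing k (tmod (ClSub.idealMod D) F) z + pairing k (tmod (ClSub.quotMod D) F) z :=
    pairing_shortExact k hT hIF hOF hQF z
  have hu : pairing k (tmod (Coh.structureModule X) F) z = pairing k F z := pairing_iso k (AmpleLib.unitL F) z
  have hc : pairing k (tmod (ClSub.idealMod D) F) z = pairing k (CohB1.tensorMod F (ClSub.idealMod D)) z :=
    pairing_iso k (AmpleLib.comm (ClSub.idealMod D) F) z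
  rw [dif, sub_mul, one_mul, map_sub, pairing_of_mul, ← hc,
    pairing_iso k (AmpleLib.comm F (ClSub.quotMod D))]
  exact eq_sub_of_add_eq' (h.symm.trans hu)

end Groth.Agent.IntLib
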