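import Groth.Agent.IntLib.Num
import Groth.Agent.IntLib.Divisor
/-!
Intersection numbers through the components of the support.
-/

set_option autoImplicit false
set_option backward.isDefEq.respectTransparency false
set_option linter.style.haveILetI false

universe u

open CategoryTheory CategoryTheory.Limits AlgebraicGeometry TopologicalSpace
open Groth.Agent.PullbackMod Groth.Agent.DCohLib Groth.Agent.DevLib Groth.Agent.QCohLib
open Groth.Agent.HilbLib

noncomputable section

namespace Groth.Agent.IntLib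

/-- The structure sheaf of the reduced closure of a point. -/
def compMod {X : Scheme.{u}} (ξ : X) : X.Modules :=
  ClSub.quotMod (Scheme.IdealSheafData.vanishingIdeal ⟨closure ({ξ} : Set X), isClosed_closure⟩)

theorem isPiece_compMod {X : Scheme.{u}} [IsLocallyNoetherian X] (ξ : X) : IsPiece ξ (compMod ξ) := by
  let J := Scheme.IdealSheafData.vanishingIdeal (⟨closure {ξ}, isClosed_closure⟩ : Closeds X)
  let Z := J.subscheme
  let i : Z ⟶ X := J.subschemeι
  haveI hZ : IsIntegral Z := CurveLib.isIntegral_vanishingIdeal isClosed_closure isIrreducible_singleton.closure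
  have hr : Set.range i = closure {ξ} := by
    rw [Scheme.IdealSheafData.range_subschemeι, Scheme.IdealSheafData.coe_support_vanishingIdeal]
    rfl
  have hgen : i (genericPoint Z) = ξ := by
    have h1 : IsGenericPoint (i (genericPoint Z)) (closure {ξ}) := by
      have := (genericPoint_spec Z).image i.continuous
      rwa [Set.image_univ, hr, closure_closure] at this
    exact h1.eq isGenericPoint_closure
  have h : IsPiece ξ ((Scheme.Modules.pushforward i).obj (Coh.structureModule Z)) := by
    rw [← hgen]; exact isPiece_pushUnit i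
  exact h

/-- A proper generalization has larger closure dimension. -/
theorem dim_closure_succ {X : Scheme.{u}} {η ξ : X} (h : η ⤳ ξ) (hne : η ≠ ξ) {r : ℕ}
    (hξ : topologicalKrullDim (closure {ξ} : Set X) = r) :
    ¬ topologicalKrullDim (closure {η} : Set X) ≤ (r : WithBot ℕ∞) := by
  intro hle
  obtain ⟨p, hp, hp'⟩ := (not_dim_lt_iff isClosed_closure r).1 (by rw [hξ]; exact lt_irrefl _)
  refine (not_dim_lt_iff isClosed_closure (r + 1)).2 ⟨Fin.snoc p η, fun i => ?_, fun i j hij => ?_⟩
    (lt_of_le_of_lt hle (by exact_mod_cast Nat.lt_succ_self r))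
  · induction i using Fin.lastCases with
    | last => rw [Fin.snoc_last]; exact subset_closure rfl
    | cast i =>
      rw [Fin.snoc_castSucc]
      exact (h.trans (specializes_iff_mem_closure.2 (hp i))).mem_closure
  · induction j using Fin.lastCases with
    | last =>
      induction i using Fin.lastCases with
      | last => exact absurd hij (lt_irrefl _)
      | cast i =>
        rw [Fin.snoc_last, Fin.snoc_castSucc]
        refine ⟨h.trans (specializes_iff_mem_closure.2 (hp i)), fun eq => hne ?_⟩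
        exact (h.antisymm (eq ▸ specializes_iff_mem_closure.2 (hp i))).eq
    | cast j =>
      induction i using Fin.lastCases with
      | last => exact absurd hij (not_lt.2 (Fin.le_last _))
      | cast i =>
        rw [Fin.snoc_castSucc, Fin.snoc_castSucc]
        exact hp' i j (Fin.castSucc_lt_castSucc_iff.1 hij)

variable (k : Type u) [Field k] {X : Scheme.{u}} [X.Over (Spec (CommRingCat.of k))]
  [IsProper (X ↘ Spec (CommRingCat.of k))]

theorem pairing_decomp {r : ℕ} (M : Fin r → X.Modules) (hM : ∀ i, PicF.IsInvertible (M i)) {F : X.Modules}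
    (hF : Coh.IsCoh F) (hd : topologicalKrullDim (CohB1.support F) ≤ (r : WithBot ℕ∞)) (s : Finset X)
    (hs : ∀ ξ : X, ξ ∈ s ↔ ξ ∈ CohB1.support F ∧ topologicalKrullDim (closure ({ξ} : Set X)) = r) :
    (∀ ξ ∈ s, Module.length (X.presheaf.stalk ξ) (F.presheaf.stalk ξ) ≠ ⊤) ∧
    pairing k F (∏ i, dif (hM i)) =
      ∑ ξ ∈ s, ((Module.length (X.presheaf.stalk ξ) (F.presheaf.stalk ξ)).toNat : ℤ) *
        pairing k (compMod ξ) (∏ i, dif (hM i)) := by
  haveI := EulerIneqLib.isNoetherian_proper (X := X) k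
  set z := ∏ i, dif (hM i) with hz
  let P : X.Modules → Prop := fun N =>
    (∀ ξ ∈ s, Module.length (X.presheaf.stalk ξ) (N.presheaf.stalk ξ) ≠ ⊤) ∧
    pairing k N z = ∑ ξ ∈ s, ((Module.length (X.presheaf.stalk ξ) (N.presheaf.stalk ξ)).toNat : ℤ) *
      pairing k (compMod ξ) z
  show P F
  refine devissage (CohB1.support F) P ?_ ?_ ?_ ?_ F hF subset_rfl
  · rintro A B ⟨e⟩ ⟨h1, h2⟩
    have hl : ∀ ξ : X, Module.length (X.presheaf.stalk ξ) (B.presheaf.stalk ξ) =
        Module.length (X.presheaf.stalk ξ) (A.presheaf.stalk ξ) := fun ξ =>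
      (LinearEquiv.ofBijective _ (stalkLin_bijective_of_iso e ξ)).length_eq.symm
    refine ⟨fun ξ hξ => by rw [hl]; exact h1 ξ hξ, ?_⟩
    rw [← pairing_iso k e, h2]
    simp only [hl]
  · intro A hA
    have hl : ∀ ξ : X, Module.length (X.presheaf.stalk ξ) (A.presheaf.stalk ξ) = 0 := fun ξ => by
      haveI : Subsingleton (A.presheaf.stalk ξ) := not_not.1 fun h =>
        (Set.eq_empty_iff_forall_notMem.1 (support_eq_empty_of_isZero hA) ξ) h
      exact Module.length_eq_zero
    refine ⟨fun ξ _ => by rw [hl]; exact ENat.zero_ne_top, ?_⟩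
    rw [pairing_isZero k hA]
    simp [hl]
  · intro S hS h₁ h₂ h₃ _ e₁ e₃
    have hl : ∀ ξ : X, Module.length (X.presheaf.stalk ξ) (S.X₂.presheaf.stalk ξ) =
        Module.length (X.presheaf.stalk ξ) (S.X₁.presheaf.stalk ξ) +
          Module.length (X.presheaf.stalk ξ) (S.X₃.presheaf.stalk ξ) := fun ξ => by
      haveI := hS.mono_f
      haveI := hS.epi_g
      exact Module.length_eq_add_of_exact _ _ ((mono_iff_stalk S.f).1 inferInstance ξ)
        ((epi_iff_stalk S.g).1 inferInstance ξ) (stalk_exact hS ξ)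
    refine ⟨fun ξ hξ => by rw [hl]; exact WithTop.add_ne_top.2 ⟨e₁.1 ξ hξ, e₃.1 ξ hξ⟩, ?_⟩
    rw [pairing_shortExact k hS h₁ h₂ h₃, e₁.2, e₃.2, ← Finset.sum_add_distrib]
    refine Finset.sum_congr rfl fun ξ hξ => ?_
    rw [hl, ENat.toNat_add (e₁.1 ξ hξ) (e₃.1 ξ hξ), Nat.cast_add, add_mul]
  intro η _ hηT Q hQ _
  have hd' : topologicalKrullDim (closure {η} : Set X) ≤ (r : WithBot ℕ∞) :=
    (Topology.IsEmbedding.inclusion hηT).isInducing.topologicalKrullDim_le.trans hd
  have hsQ : CohB1.support Q ⊆ closure {η} := fun y hy => specializes_iff_mem_closure.1 (hQ.supp y hy)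
  have hzero : ∀ ξ ∈ s, ξ ≠ η → Module.length (X.presheaf.stalk ξ) (Q.presheaf.stalk ξ) = 0 := fun ξ hξ hne => by
    haveI : Subsingleton (Q.presheaf.stalk ξ) :=
      not_not.1 fun h => dim_closure_succ (hQ.supp ξ h) (Ne.symm hne) ((hs ξ).1 hξ).2 hd'
    exact Module.length_eq_zero
  have hone : Module.length (X.presheaf.stalk η) (Q.presheaf.stalk η) = 1 :=
    haveI := hQ.simple
    Module.length_eq_one _ _
  refine ⟨fun ξ hξ => ?_, ?_⟩
  · by_cases h : ξ = η
    · subst h; rw [hone]; exact ENat.one_ne_top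
    · rw [hzero ξ hξ h]; exact ENat.zero_ne_top
  by_cases hη : η ∈ s
  · rw [Finset.sum_eq_single η (fun ξ hξ hne => by rw [hzero ξ hξ hne]; simp) (fun h => absurd hη h), hone]
    simp only [ENat.toNat_one, Nat.cast_one, one_mul]
    have hd'' : topologicalKrullDim (closure {η} : Set X) < ((r + 1 : ℕ) : WithBot ℕ∞) :=
      lt_of_le_of_lt hd' (by exact_mod_cast Nat.lt_succ_self r)
    have sm : ∀ N : X.Modules, Coh.IsCoh N → (∀ y ∈ CohB1.support N, η ⤳ y) → η ∉ CohB1.support N →
        pairing k N z = 0 := fun N hN hsN hξ => pairing_prod_eq_zero k hN (dim_lt_of_notMem (isClosed_support hN)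
          (fun y hy => specializes_iff_mem_closure.1 (hsN y hy)) hξ hd'') M hM
    have hG := isPiece_compMod η
    obtain ⟨H, p, q, hH, hp, hq, hps, hqs⟩ := exists_common hQ hG
    rw [pairing_coker k p hH hQ.coh, pairing_coker k q hH hG.coh,
      sm _ (isCoh_kernel_cokernel p hH hQ.coh).2 (supp_coker p hQ.supp) (notMem_support_coker p hps),
      sm _ (isCoh_kernel_cokernel q hH hG.coh).2 (supp_coker q hG.supp) (notMem_support_coker q hqs)]
  · have hlt : topologicalKrullDim (closure {η} : Set X) < (r : WithBot ℕ∞) :=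
      lt_of_le_of_ne hd' fun h => hη ((hs η).2 ⟨hηT (subset_closure rfl), h⟩)
    rw [Finset.sum_eq_zero fun ξ hξ => by rw [hzero ξ hξ fun e => hη (e ▸ hξ)]; simp]
    exact pairing_prod_eq_zero k hQ.coh
      (lt_of_le_of_lt (Topology.IsEmbedding.inclusion hsQ).isInducing.topologicalKrullDim_le hlt) M hM

end Groth.Agent.IntLib
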