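import Groth.Agent.IntLib.Pairing
import Groth.Agent.HilbLib.Positive
/-!
Devissage for intersection pairings.
-/

set_option autoImplicit false
set_option backward.isDefEq.respectTransparency false
set_option linter.style.haveILetI false

universe u

open CategoryTheory CategoryTheory.Limits AlgebraicGeometry TopologicalSpace
open Groth.Agent.PullbackMod Groth.Agent.DCohLib Groth.Agent.DevLib Groth.Agent.QCohLib Groth.Agent.ParaFLib
open Groth.Agent.HilbLib
open scoped TensorProduct

noncomputable section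

namespace Groth.Agent.IntLib

variable (k : Type u) [Field k] {X : Scheme.{u}} [X.Over (Spec (CommRingCat.of k))]
  [IsProper (X ↘ Spec (CommRingCat.of k))]

theorem pairing_iso {M N : X.Modules} (e : M ≅ N) (z : PicRing X) : pairing k M z = pairing k N z := by
  induction z using MonoidAlgebra.induction_on with
  | of g => rw [pairing_of, pairing_of, mk_congr e]
  | add a b ha hb => rw [map_add, map_add, ha, hb]
  | smul n a ha => rw [map_zsmul, map_zsmul, ha]

theorem pairing_shortExact {S : ShortComplex X.Modules} (hS : S.ShortExact) (h₁ : Coh.IsCoh S.X₁)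
    (h₂ : Coh.IsCoh S.X₂) (h₃ : Coh.IsCoh S.X₃) (z : PicRing X) :
    pairing k S.X₂ z = pairing k S.X₁ z + pairing k S.X₃ z := by
  haveI := EulerIneqLib.isNoetherian_proper (X := X) k
  induction z using MonoidAlgebra.induction_on with
  | of g =>
    obtain ⟨c, G, hG, rfl⟩ := g
    rw [pairing_of, pairing_of, pairing_of]
    have hc : Coh.IsCoh G := CurveLib.isCoh_of_isInvertible hG
    exact CurveLib.euler_shortExact (K := k)
      (CurveLib.shortExact_tensR hS fun x => CurveLib.freeAt_one_of_isInvertible hG x)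
      (CurveLib.isCoh_tmod h₁ hc) (CurveLib.isCoh_tmod h₂ hc) (CurveLib.isCoh_tmod h₃ hc)
  | add a b ha hb => simp only [map_add, ha, hb]; abel
  | smul n a ha => simp only [map_zsmul, ha, smul_add]

theorem pairing_coker {A B : X.Modules} (f : A ⟶ B) [Mono f] (hA : Coh.IsCoh A) (hB : Coh.IsCoh B) (z : PicRing X) :
    pairing k B z = pairing k A z + pairing k (cokernel f) z :=
  haveI := EulerIneqLib.isNoetherian_proper (X := X) k
  pairing_shortExact k (cokerSeq_shortExact f) hA hB (isCoh_kernel_cokernel f hA hB).2 z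

theorem pairing_isZero {M : X.Modules} (hM : IsZero M) (z : PicRing X) : pairing k M z = 0 := by
  haveI := EulerIneqLib.isNoetherian_proper (X := X) k
  have hc := isCoh_of_isZero hM
  have h := pairing_coker k (𝟙 M) hc hc z
  rw [pairing_iso k ((isZero_cokernel_of_epi (𝟙 M)).iso hM)] at h
  linarith

/-- `z` kills everything of dimension `< n`. -/
def Kills (n : ℕ) (z : PicRing X) : Prop :=
  ∀ M : X.Modules, Coh.IsCoh M → topologicalKrullDim (CohB1.support M) < (n : WithBot ℕ∞) → pairing k M z = 0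

theorem kill_zero (z : PicRing X) : Kills k 0 z := fun M hM hd => by
  refine pairing_isZero k (isZero_of_support_empty (Set.not_nonempty_iff_eq_empty.1 fun ⟨x, hx⟩ => ?_)) z
  haveI : Nonempty (IrreducibleCloseds (CohB1.support M)) :=
    ⟨⟨closure {⟨x, hx⟩}, isIrreducible_singleton.closure, isClosed_closure⟩⟩
  have h0 : (0 : WithBot ℕ∞) ≤ topologicalKrullDim (CohB1.support M) := Order.krullDim_nonneg
  exact not_lt.2 h0 (by simpa using hd)

theorem kill_succ {n : ℕ} {z : PicRing X} (hz : Kills k n z) {L : X.Modules} (hL : PicF.IsInvertible L) :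
    Kills k (n + 1) (dif hL * z) := by
  haveI := EulerIneqLib.isNoetherian_proper (X := X) k
  intro M hM hd
  refine devissage (CohB1.support M) (fun N => pairing k N (dif hL * z) = 0)
    (fun A B ⟨e⟩ h => by rw [← pairing_iso k e]; exact h) (fun A hA => pairing_isZero k hA _) ?_ ?_ M hM subset_rfl
  · intro S hS h₁ h₂ h₃ _ e₁ e₃
    rw [pairing_shortExact k hS h₁ h₂ h₃, e₁, e₃, add_zero]
  intro ξ _ hξT Q hQ _
  have hd' := isClosed_closure_le hξT hd
  have small : ∀ N : X.Modules, Coh.IsCoh N → (∀ y ∈ CohB1.support N, ξ ⤳ y) → ξ ∉ CohB1.support N →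
      pairing k N z = 0 := fun N hN hs hξ => hz N hN (dim_lt_of_notMem (isClosed_support hN)
        (fun y hy => specializes_iff_mem_closure.1 (hs y hy)) hξ hd')
  have hQL : Coh.IsCoh (tmod Q L) := CurveLib.isCoh_tmod hQ.coh (CurveLib.isCoh_of_isInvertible hL)
  obtain ⟨S, hS, h1, h2, h3, htf, hs3, hs1, hn1, ⟨e⟩, ⟨θ⟩⟩ := exists_tfQuot (ξ := ξ) hQL
    (by rw [support_tensor hL]; exact hQ.supp)
  obtain ⟨eL⟩ := nonempty_stalk_equiv hL Q ξ
  obtain ⟨m₀, hm₀, ⟨e₀⟩⟩ := isSimpleModule_iff_quot_maximal.1 hQ.simple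
  have hk : ∀ a ∈ IsLocalRing.maximalIdeal (X.presheaf.stalk ξ), ∀ z : Q.presheaf.stalk ξ, a • z = 0 := by
    intro a ha z
    obtain ⟨r, hr⟩ := Submodule.Quotient.mk_surjective m₀ (e₀ z)
    refine e₀.injective ?_
    rw [map_smul, map_zero, ← hr, ← Submodule.Quotient.mk_smul]
    refine (Submodule.Quotient.mk_eq_zero _).2 (Ideal.mul_mem_right r _ ?_)
    rwa [IsLocalRing.eq_maximalIdeal hm₀]
  obtain ⟨H, p, q, hH, hp, hq, hps, hqs⟩ := exists_common' hQ.coh h3 hQ.tf htf hk (θ.trans eL).symm
  have e1 := small _ h1 hs1 hn1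
  have ep := small _ (isCoh_kernel_cokernel p hH hQ.coh).2 (supp_coker p hQ.supp) (notMem_support_coker p hps)
  have eq' := small _ (isCoh_kernel_cokernel q hH h3).2 (supp_coker q hs3) (notMem_support_coker q hqs)
  rw [dif, sub_mul, one_mul, map_sub, pairing_of_mul]
  have hQL' := pairing_shortExact k hS h1 h2 h3 z
  rw [e1, zero_add, pairing_coker k q hH h3, eq', add_zero, pairing_iso k e] at hQL'
  rw [show pairing k (CohB1.tensorMod Q L) z = pairing k H z from hQL', pairing_coker k p hH hQ.coh, ep, add_zero,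
    sub_self]

end Groth.Agent.IntLib
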