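import Groth.Agent.HilbLib.Positive
/-!
Multiplication by a section of a power of an ample module on a piece.
-/

set_option autoImplicit false
set_option backward.isDefEq.respectTransparency false
set_option linter.style.haveILetI false

universe u

open CategoryTheory CategoryTheory.Limits AlgebraicGeometry TopologicalSpace
open Groth.Agent.PullbackMod Groth.Agent.DCohLib Groth.Agent.DevLib Groth.Agent.QCohLib Groth.Agent.ParaFLib
open Groth.Agent.HilbLib
open scoped TensorProduct

noncomputable section

namespace Groth.Agent.IntLib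

variable {X : Scheme.{u}} [IsNoetherian X] {L : X.Modules}

/-- A section of a power of an ample module, nonzero at `ξ` and zero at `x`, multiplies a piece into its twist
injectively, with cokernel containing `x` and not `ξ`. -/
theorem exists_section_mono (hamp : CohB1.IsAmple L) {ξ x : X} (hξx : ξ ⤳ x) (hne : x ≠ ξ)
    {Q : X.Modules} (hQ : IsPiece ξ Q) :
    ∃ (j : ℕ) (μ : Q ⟶ tmod Q (CohB1.tensorPow L (j + 1))), Mono μ ∧
      (∀ y ∈ CohB1.support (cokernel μ), ξ ⤳ y) ∧ ξ ∉ CohB1.support (cokernel μ) ∧
      x ∈ CohB1.support (cokernel μ) := by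
  let U : X.Opens := ⟨(closure {x})ᶜ, isClosed_closure.isOpen_compl⟩
  obtain ⟨j, t, hξt, htU, -⟩ := AmpleLib.exists_small_genLocus hamp (U := U) (x := ξ)
    (show ξ ∉ closure {x} from fun h => hne ((specializes_iff_mem_closure.2 h).antisymm hξx).eq)
  have hxt : x ∉ CohB1.genLocus _ t := fun h => htU h (subset_closure rfl)
  let N := CohB1.tensorPow L (j + 1)
  have hN : PicF.IsInvertible N := AmpleLib.isInvertible_tensorPow hamp.1 (j + 1)
  let μ : Q ⟶ tmod Q N := (AmpleLib.unitR Q).inv ≫ CurveLib.mulS Q t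
  have hu : ∀ y : X, Function.Bijective (stalkLin (AmpleLib.unitR Q).inv y) := fun y =>
    stalkLin_bijective_of_iso (AmpleLib.unitR Q).symm y
  have hone : ∀ y, stalkLin t y (oneG y) = N.presheaf.germ ⊤ y trivial (AmpleLib.sec t) := fun y =>
    stalkLin_germ t (U := ⊤) y trivial _
  have hξb : Function.Bijective (stalkLin μ ξ) := by
    rw [stalkLin_comp, LinearMap.coe_comp]
    refine Function.Bijective.comp ?_ (hu ξ)
    have hb := (AmpleLib.mem_genLocus_iff hN).1 hξt
    have htb : Function.Bijective (stalkLin t ξ) := by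
      refine ⟨(injective_iff_map_eq_zero _).2 fun z hz => ?_, fun z => ?_⟩
      · obtain ⟨r, rfl⟩ := (bijective_oneG ξ).2 z
        rw [map_smul, hone] at hz
        have hr : r = 0 := hb.1 (hz.trans (zero_smul _ _).symm)
        rw [hr]; exact zero_smul _ _
      · obtain ⟨r, rfl⟩ := hb.2 z
        exact ⟨r • oneG ξ, by rw [map_smul, hone]⟩
    have e : ∀ z, stalkLin (CurveLib.mulS Q t) ξ (stalkTensor ξ Q (Coh.structureModule X) z) =
        stalkTensor ξ Q N ((stalkLin t ξ).lTensor _ z) := fun z => stalkTensor_natural_right ξ t z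
    have hb' : Function.Bijective ((stalkLin (CurveLib.mulS Q t) ξ) ∘ (stalkTensor ξ Q (Coh.structureModule X))) := by
      have e' : (stalkLin (CurveLib.mulS Q t) ξ) ∘ (stalkTensor ξ Q (Coh.structureModule X)) =
          (stalkTensor ξ Q N) ∘ ((LinearEquiv.ofBijective _ htb).lTensor (Q.presheaf.stalk ξ)) := funext e
      rw [e']
      exact (stalkTensor ξ Q N).bijective.comp (LinearEquiv.bijective _)
    exact (Function.Bijective.of_comp_iff _ (stalkTensor ξ Q (Coh.structureModule X)).bijective).1 hb'
  haveI : Mono μ := by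
    refine (mono_iff_stalk _).2 fun y => (injective_iff_map_eq_zero _).2 fun z hz => ?_
    obtain ⟨O, hy, s, rfl⟩ := TopCat.Presheaf.exists_germ_eq Q.presheaf z
    rw [stalkLin_germ] at hz
    obtain ⟨W, hyW, i₁, i₂, hres⟩ := TopCat.Presheaf.germ_eq (tmod Q N).presheaf y hy hy _ 0
      (hz.trans (map_zero _).symm)
    rw [map_zero] at hres
    rw [← TopCat.Presheaf.germ_res_apply Q.presheaf i₁ y hyW s]
    refine (congrArg _ (hQ.tf W _ fun hξW => hξb.1 ?_)).trans (map_zero _)
    rw [stalkLin_germ, map_zero]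
    exact (congrArg ((tmod Q N).presheaf.germ W ξ hξW) ((app_res μ i₁.le s).trans hres)).trans (map_zero _)
  have hQN : Coh.IsCoh (tmod Q N) := CurveLib.isCoh_tmod hQ.coh (CurveLib.isCoh_of_isInvertible hN)
  have hsuppQ : ∀ y ∈ CohB1.support (tmod Q N), ξ ⤳ y := by
    rw [support_tensor hN]; exact hQ.supp
  have hxQ : x ∈ CohB1.support Q := by
    haveI := hQ.simple
    haveI := IsSimpleModule.nontrivial (X.presheaf.stalk ξ) (Q.presheaf.stalk ξ)
    exact hξx.mem_closed (isClosed_support hQ.coh) (not_subsingleton _)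
  refine ⟨j, μ, inferInstance, supp_coker μ hsuppQ, notMem_support_coker μ hξb.2, fun hss => ?_⟩
  have hsurj : Function.Surjective (stalkLin μ x) := fun z => (coker_exact μ x z).1 (hss.elim _ _)
  obtain ⟨e, he⟩ := exists_stalk_gen hN x
  obtain ⟨a, ha⟩ := he.2 (N.presheaf.germ ⊤ x trivial (AmpleLib.sec t))
  have hau : ¬ IsUnit a := fun hu' => hxt ((AmpleLib.mem_genLocus_iff hN).2 (by
    have := (AmpleLib.bijective_smul_iff he a).2 hu'
    simpa only [ha] using this))
  have hle : (⊤ : Submodule (X.presheaf.stalk x) ((tmod Q N).presheaf.stalk x)) ≤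
      IsLocalRing.maximalIdeal (X.presheaf.stalk x) • ⊤ := by
    intro z _
    obtain ⟨w, rfl⟩ := hsurj z
    rw [stalkLin_comp, LinearMap.comp_apply]
    obtain ⟨v, hv⟩ := (stalkTensor x Q (Coh.structureModule X)).surjective (stalkLin (AmpleLib.unitR Q).inv x w)
    rw [← hv]
    erw [stalkTensor_natural_right]
    clear hv
    induction v using TensorProduct.induction_on with
    | zero => simp
    | add p q hp hq => rw [map_add, map_add]; exact add_mem hp hq
    | tmul q r =>
      obtain ⟨c, rfl⟩ := (bijective_oneG x).2 r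
      rw [LinearMap.lTensor_tmul, map_smul, hone, ← ha, smul_smul, TensorProduct.tmul_smul, map_smul]
      exact Submodule.smul_mem_smul (Ideal.mul_mem_left _ c hau) trivial
  haveI := hQN.1
  haveI := finite_stalk_of_isFT hQN.2 x
  have h0 := Submodule.eq_bot_of_le_smul_of_le_jacobson_bot _ _ Module.Finite.fg_top hle
    (IsLocalRing.maximalIdeal_le_jacobson _)
  have : x ∈ CohB1.support (tmod Q N) := by rw [support_tensor hN]; exact hxQ
  exact this (subsingleton_of_forall_eq 0 fun z => (Submodule.mem_bot _).1 (h0.le trivial))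

end Groth.Agent.IntLib
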