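import Groth.Agent.IntLib.Kill
import Groth.Agent.IntLib.Section
/-!
Positivity of intersection numbers of ample modules.
-/

set_option autoImplicit false
set_option backward.isDefEq.respectTransparency false
set_option linter.style.haveILetI false

universe u

open CategoryTheory CategoryTheory.Limits AlgebraicGeometry TopologicalSpace
open Groth.Agent.PullbackMod Groth.Agent.DCohLib Groth.Agent.DevLib Groth.Agent.QCohLib Groth.Agent.ParaFLib
open Groth.Agent.HilbLib
open scoped TensorProduct

noncomputable section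

namespace Groth.Agent.IntLib

variable (k : Type u) [Field k] {X : Scheme.{u}} [X.Over (Spec (CommRingCat.of k))]
  [IsProper (X ↘ Spec (CommRingCat.of k))]

/-- Nonnegative on modules supported in dimension `≤ n`, positive where the dimension is `n`. -/
def IsPos (n : ℕ) (z : PicRing X) : Prop :=
  ∀ M : X.Modules, Coh.IsCoh M → topologicalKrullDim (CohB1.support M) < ((n + 1 : ℕ) : WithBot ℕ∞) →
    0 ≤ pairing k M z ∧ (HasChain n (CohB1.support M) → 0 < pairing k M z)

theorem isPos_one : IsPos (X := X) k 0 1 := by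
  haveI := EulerIneqLib.isNoetherian_proper (X := X) k
  intro M hM hd
  have hd0 : topologicalKrullDim (CohB1.support M) ≤ (0 : WithBot ℕ∞) := by
    have := dim_le_of_lt hd
    exact_mod_cast this
  have e : pairing k M 1 = Module.finrank k (Coh.HH X M 0) := by
    rw [← map_one (MonoidAlgebra.of ℤ (Inv X)), pairing_of, Submonoid.coe_one, mul_one, chiC_mk,
      CurveLib.euler_of_dim_le_zero (k := k) (isClosed_support hM) subset_rfl hd0]
  rw [e]
  refine ⟨Int.natCast_nonneg _, fun ⟨p, hp, _⟩ => ?_⟩
  haveI := EulerIneqLib.finite_HH (k := k) hM 0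
  haveI : Nontrivial (Coh.HH X M 0) := by
    rw [← not_subsingleton_iff_nontrivial]
    exact fun hsub0 => hp 0 (CurveLib.subsingleton_stalk_of_H0 (isClosed_support hM) hd0 M subset_rfl (p 0))
  exact_mod_cast Module.finrank_pos

theorem isPos_prod : ∀ (n : ℕ) (L M : Fin n → X.Modules) (_ : ∀ i, CohB1.IsAmple (L i))
    (hM : ∀ i, PicF.IsInvertible (M i))
    (_ : ∀ i, Nonempty (CohB1.tensorMod (L i) (M i) ≅ Coh.structureModule X)),
    IsPos k n (∏ i, dif (hM i)) := by
  haveI := EulerIneqLib.isNoetherian_proper (X := X) k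
  intro n
  induction n with
  | zero => intro L M _ hM _; rw [Fin.prod_univ_zero]; exact isPos_one k
  | succ n ih =>
    intro L M hL hM hLM F hF hd
    have hsub : ∀ N : X.Modules, CohB1.support N ⊆ CohB1.support F →
        topologicalKrullDim (CohB1.support N) < ((n + 1 + 1 : ℕ) : WithBot ℕ∞) := fun N hN =>
      lt_of_le_of_lt (Topology.IsEmbedding.inclusion hN).isInducing.topologicalKrullDim_le hd
    set z := ∏ i, dif (hM i) with hz
    suffices H : 0 ≤ pairing k F z ∧
        ∀ ξ ∈ CohB1.support F, HasChain (n + 1) (closure {ξ}) → 0 < pairing k F z by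
      refine ⟨H.1, fun hch => ?_⟩
      obtain ⟨ξ, hξ, h⟩ := hch.exists_point
      exact H.2 ξ hξ h
    refine devissage (CohB1.support F) (fun N => 0 ≤ pairing k N z ∧
      ∀ ξ ∈ CohB1.support N, HasChain (n + 1) (closure {ξ}) → 0 < pairing k N z) ?_ ?_ ?_ ?_ F hF subset_rfl
    · rintro A B ⟨e⟩ h
      rw [← pairing_iso k e]
      exact ⟨h.1, fun ξ hξ => h.2 ξ fun hs => hξ ((stalkLin_bijective_of_iso e ξ).surjective.subsingleton)⟩
    · intro A hA
      exact ⟨(pairing_isZero k hA z).ge, fun ξ hξ =>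
        absurd hξ (by rw [support_eq_empty_of_isZero hA]; exact Set.notMem_empty ξ)⟩
    · intro S hS h₁ h₂ h₃ _ i₁ i₃
      rw [pairing_shortExact k hS h₁ h₂ h₃]
      refine ⟨add_nonneg i₁.1 i₃.1, fun ξ hξ hch => ?_⟩
      rw [support_X₂ hS] at hξ
      rcases hξ with h | h
      · linarith [i₁.2 ξ h hch, i₃.1]
      · linarith [i₁.1, i₃.2 ξ h hch]
    intro ξ _ hξT Q hQ _
    have hd' := isClosed_closure_le hξT hd
    have hsQ : CohB1.support Q ⊆ closure {ξ} := fun y hy => specializes_iff_mem_closure.1 (hQ.supp y hy)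
    suffices H : 0 ≤ pairing k Q z ∧ (HasChain (n + 1) (closure {ξ}) → 0 < pairing k Q z) from
      ⟨H.1, fun y hy hch => H.2 (hch.mono (closure_minimal (Set.singleton_subset_iff.2 (hsQ hy)) isClosed_closure))⟩
    by_cases hch : HasChain (n + 1) (closure {ξ})
    swap
    · have hlt : topologicalKrullDim (closure {ξ} : Set X) < ((n + 1 : ℕ) : WithBot ℕ∞) :=
        not_not.1 fun h => hch ((not_dim_lt_iff isClosed_closure _).1 h)
      have h0 : pairing k Q z = 0 := pairing_prod_eq_zero k hQ.coh
        (lt_of_le_of_lt (Topology.IsEmbedding.inclusion hsQ).isInducing.topologicalKrullDim_le hlt) M hM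
      exact ⟨h0.ge, fun h => absurd h hch⟩
    suffices H : 0 < pairing k Q z from ⟨H.le, fun _ => H⟩
    obtain ⟨x, hξx, hne, hchx⟩ := hch.exists_below
    obtain ⟨j, μ, _, hCs, hξC, hxC⟩ := exists_section_mono (hL 0) hξx hne hQ
    have hN : PicF.IsInvertible (CohB1.tensorPow (L 0) (j + 1)) := AmpleLib.isInvertible_tensorPow (hL 0).1 _
    have hQN := CurveLib.isCoh_tmod hQ.coh (CurveLib.isCoh_of_isInvertible hN)
    have hC := (isCoh_kernel_cokernel μ hQ.coh hQN).2
    have hdC : topologicalKrullDim (CohB1.support (cokernel μ)) < ((n + 1 : ℕ) : WithBot ℕ∞) :=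
      dim_lt_of_notMem (isClosed_support hC) (fun y hy => specializes_iff_mem_closure.1 (hCs y hy)) hξC hd'
    set z' := ∏ i : Fin n, dif (hM i.succ)
    have hpos := (ih (fun i => L i.succ) (fun i => M i.succ) (fun i => hL i.succ) (fun i => hM i.succ)
      (fun i => hLM i.succ) (cokernel μ) hC hdC).2
      (hchx.mono (closure_minimal (Set.singleton_subset_iff.2 hxC) (isClosed_support hC)))
    set l := MonoidAlgebra.of ℤ (Inv X) (inv' (hL 0).1) with hl
    have hinv : l * (1 - dif (hM 0)) = 1 := by
      rw [dif, sub_sub_cancel, hl, ← map_mul,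
        show inv' (hL 0).1 * inv' (hM 0) = (1 : Inv X) from Subtype.ext (mk_congr (hLM 0).some), map_one]
    obtain ⟨w, hw⟩ := inv_pow_expansion hinv 1 (j + 1)
    rw [Finset.sum_range_succ, Finset.sum_range_one, pow_zero, pow_one, mul_one, Nat.choose_zero_right, Nat.cast_one,
      Nat.add_sub_cancel, Nat.choose_one_right] at hw
    have hNl : MonoidAlgebra.of ℤ (Inv X) (inv' hN) = l ^ (j + 1) := by
      rw [hl, ← map_pow]
      exact congrArg _ (Subtype.ext (mk_tensorPow (L 0) (j + 1)))
    have e1 : pairing k (cokernel μ) z' = pairing k Q ((l ^ (j + 1) - 1) * z') := by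
      have h : pairing k (CohB1.tensorMod Q (CohB1.tensorPow (L 0) (j + 1))) z' =
          pairing k Q z' + pairing k (cokernel μ) z' := pairing_coker k μ hQ.coh hQN z'
      rw [sub_mul, one_mul, map_sub, ← hNl, pairing_of_mul, h, add_sub_cancel_left]
    have e2 : (l ^ (j + 1) - 1) * z' = (((j + 1 : ℕ) : ℤ)) • z + w * (dif (hM 0) * (dif (hM 0) * z')) := by
      rw [hw, hz, Fin.prod_univ_succ, zsmul_eq_mul]
      push_cast
      ring
    have e3 : pairing k Q (w * (dif (hM 0) * (dif (hM 0) * z'))) = 0 := by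
      have hM2 : ∀ i, PicF.IsInvertible (Fin.cons (α := fun _ => X.Modules) (M 0) M i) := fun i =>
        Fin.cases (hM 0) hM i
      have h := pairing_mul_prod_eq_zero k hQ.coh (r := n + 2)
        (lt_of_le_of_lt (Topology.IsEmbedding.inclusion hsQ).isInducing.topologicalKrullDim_le hd') _ hM2 w
      rw [Fin.prod_univ_succ, Fin.prod_univ_succ] at h
      exact h
    rw [e1, e2, map_add, map_zsmul, e3, add_zero, smul_eq_mul] at hpos
    exact pos_of_mul_pos_right hpos (Int.natCast_nonneg _)

end Groth.Agent.IntLib
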