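import Groth.Agent.IntLib.Push
/-!
Numerical invariance of intersection pairings.
-/

set_option autoImplicit false
set_option backward.isDefEq.respectTransparency false
set_option linter.style.haveILetI false

universe u

open CategoryTheory CategoryTheory.Limits AlgebraicGeometry TopologicalSpace
open Groth.Agent.PullbackMod Groth.Agent.DCohLib Groth.Agent.DevLib Groth.Agent.QCohLib
open Groth.Agent.HilbLib

noncomputable section

namespace Groth.Agent.IntLib

variable (k : Type u) [Field k] {X : Scheme.{u}} [X.Over (Spec (CommRingCat.of k))]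
  [IsProper (X ↘ Spec (CommRingCat.of k))]

theorem Kills.add {n : ℕ} {z w : PicRing X} (hz : Kills k n z) (hw : Kills k n w) : Kills k n (z + w) :=
  fun M hM hd => by rw [map_add, hz M hM hd, hw M hM hd, add_zero]

theorem kills_prod {n : ℕ} {z : PicRing X} (hz : Kills k n z) : ∀ {r : ℕ} (M : Fin r → X.Modules)
    (hM : ∀ i, PicF.IsInvertible (M i)), Kills k (n + r) ((∏ i, dif (hM i)) * z) := by
  intro r
  induction r with
  | zero => intro M hM; rwa [Fin.prod_univ_zero, one_mul]
  | succ r ih =>
    intro M hM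
    rw [Fin.prod_univ_succ, mul_assoc]
    exact kill_succ k (ih (fun i => M i.succ) fun i => hM i.succ) (hM 0)

/-- Invertible modules of the same degree on every integral closed curve agree against modules of dimension `≤ 1`. -/
theorem kills_two {M M' : X.Modules} (hM : PicF.IsInvertible M) (hM' : PicF.IsInvertible M')
    (hnum : ∀ (Y : Scheme.{u}) (ι : Y ⟶ X) [IsClosedImmersion ι], IsIntegral Y →
      topologicalKrullDim Y = 1 →
      Pic13.curveDeg k (ι ≫ (X ↘ Spec (CommRingCat.of k))) ((Scheme.Modules.pullback ι).obj M) =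
        Pic13.curveDeg k (ι ≫ (X ↘ Spec (CommRingCat.of k))) ((Scheme.Modules.pullback ι).obj M')) :
    Kills k 2 (dif hM - dif hM') := by
  haveI := EulerIneqLib.isNoetherian_proper (X := X) k
  set z := dif hM - dif hM' with hz
  have small : ∀ N : X.Modules, Coh.IsCoh N → topologicalKrullDim (CohB1.support N) < (1 : ℕ) →
      pairing k N z = 0 := fun N hN hd => by
    have a := pairing_prod_eq_zero k hN hd (fun _ : Fin 1 => M) (fun _ => hM)
    have b := pairing_prod_eq_zero k hN hd (fun _ : Fin 1 => M') (fun _ => hM')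
    rw [Fin.prod_univ_one] at a b
    rw [hz, map_sub, a, b, sub_zero]
  intro N hN hd
  refine devissage (CohB1.support N) (fun N => pairing k N z = 0)
    (fun A B ⟨e⟩ h => by rw [← pairing_iso k e]; exact h) (fun A hA => pairing_isZero k hA _) ?_ ?_ N hN subset_rfl
  · intro S hS h₁ h₂ h₃ _ e₁ e₃
    rw [pairing_shortExact k hS h₁ h₂ h₃, e₁, e₃, add_zero]
  intro ξ _ hξT Q hQ _
  have hd' := isClosed_closure_le hξT hd
  have hsQ : CohB1.support Q ⊆ closure {ξ} := fun y hy => specializes_iff_mem_closure.1 (hQ.supp y hy)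
  by_cases h1 : topologicalKrullDim (closure {ξ} : Set X) < (1 : ℕ)
  · exact small Q hQ.coh (lt_of_le_of_lt (Topology.IsEmbedding.inclusion hsQ).isInducing.topologicalKrullDim_le h1)
  let J := Scheme.IdealSheafData.vanishingIdeal (⟨closure {ξ}, isClosed_closure⟩ : Closeds X)
  let Z := J.subscheme
  let i : Z ⟶ X := J.subschemeι
  haveI hZ : IsIntegral Z := CurveLib.isIntegral_vanishingIdeal isClosed_closure isIrreducible_singleton.closure
  have hdZ : topologicalKrullDim Z = 1 := by
    rw [CurveLib.dim_vanishingIdeal]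
    exact le_antisymm (dim_le_of_lt hd') (by simpa using not_lt.1 h1)
  have hr : Set.range i = closure {ξ} := by
    rw [Scheme.IdealSheafData.range_subschemeι, Scheme.IdealSheafData.coe_support_vanishingIdeal]
    rfl
  have hgen : i (genericPoint Z) = ξ := by
    have h1 : IsGenericPoint (i (genericPoint Z)) (closure {ξ}) := by
      have := (genericPoint_spec Z).image i.continuous
      rwa [Set.image_univ, hr, closure_closure] at this
    exact h1.eq isGenericPoint_closure
  let G := (Scheme.Modules.pushforward i).obj (Coh.structureModule Z)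
  have hG : IsPiece ξ G := hgen ▸ isPiece_pushUnit i
  have hPG : pairing k G z = 0 := by
    letI : Z.Over (Spec (CommRingCat.of k)) := ⟨i ≫ (X ↘ Spec (CommRingCat.of k))⟩
    haveI : IsProper (Z ↘ Spec (CommRingCat.of k)) :=
      inferInstanceAs (IsProper (i ≫ (X ↘ Spec (CommRingCat.of k))))
    haveI : IsLocallyNoetherian Z := LocallyOfFiniteType.isLocallyNoetherian i
    have key : ∀ {P : X.Modules} (hP : PicF.IsInvertible P), pairing k G (dif hP) =
        Curv2.euler k X G - FGA.eulerCharLE k Z ((Scheme.Modules.pullback i).obj P) 1 := fun {P} hP => by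
      have e1 : pairing k G 1 = Curv2.euler k X G := by
        rw [← map_one (MonoidAlgebra.of ℤ (Inv X)), pairing_of, Submonoid.coe_one, mul_one, chiC_mk]
      rw [dif, map_sub, e1, pairing_of]
      refine congrArg₂ (· - ·) rfl ?_
      show Curv2.euler k X (CohB1.tensorMod G P) = _
      rw [euler_push_tensor k (i := i) rfl (isCoh_structureModule Z) hP,
        CurveLib.euler_iso (K := k) (AmpleLib.unitL _), HilbLib.eulerCharLE_eq k _ hdZ.le]
    have hn : FGA.eulerCharLE k Z ((Scheme.Modules.pullback i).obj M) 1 - FGA.eulerCharLE k Z (Coh.structureModule Z) 1 =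
        FGA.eulerCharLE k Z ((Scheme.Modules.pullback i).obj M') 1 - FGA.eulerCharLE k Z (Coh.structureModule Z) 1 :=
      hnum Z i hZ hdZ
    rw [hz, map_sub, key hM, key hM']
    linarith
  have sm : ∀ N : X.Modules, Coh.IsCoh N → (∀ y ∈ CohB1.support N, ξ ⤳ y) → ξ ∉ CohB1.support N →
      pairing k N z = 0 := fun N hN hs hξ => small N hN (dim_lt_of_notMem (isClosed_support hN)
        (fun y hy => specializes_iff_mem_closure.1 (hs y hy)) hξ hd')
  obtain ⟨H, p, q, hH, hp, hq, hps, hqs⟩ := exists_common hQ hG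
  rw [pairing_coker k q hH hG.coh,
    sm _ (isCoh_kernel_cokernel q hH hG.coh).2 (supp_coker q hG.supp) (notMem_support_coker q hqs), add_zero] at hPG
  rw [pairing_coker k p hH hQ.coh, hPG,
    sm _ (isCoh_kernel_cokernel p hH hQ.coh).2 (supp_coker p hQ.supp) (notMem_support_coker p hps), add_zero]

/-- Numerically equivalent tuples have the same pairing. -/
theorem kills_prod_sub : ∀ {r : ℕ} (M M' : Fin r → X.Modules) (hM : ∀ i, PicF.IsInvertible (M i))
    (hM' : ∀ i, PicF.IsInvertible (M' i)) (_ : ∀ (i : Fin r) (Y : Scheme.{u}) (ι : Y ⟶ X) [IsClosedImmersion ι],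
      IsIntegral Y → topologicalKrullDim Y = 1 →
      Pic13.curveDeg k (ι ≫ (X ↘ Spec (CommRingCat.of k))) ((Scheme.Modules.pullback ι).obj (M i)) =
        Pic13.curveDeg k (ι ≫ (X ↘ Spec (CommRingCat.of k))) ((Scheme.Modules.pullback ι).obj (M' i))),
    Kills k (r + 1) ((∏ i, dif (hM i)) - ∏ i, dif (hM' i)) := by
  intro r
  induction r with
  | zero =>
    intro M M' hM hM' _ N _ _
    rw [Fin.prod_univ_zero, Fin.prod_univ_zero, sub_self, map_zero]
  | succ r ih =>
    intro M M' hM hM' hnum
    have e : (∏ i, dif (hM i)) - ∏ i, dif (hM' i) =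
        dif (hM 0) * ((∏ i : Fin r, dif (hM i.succ)) - ∏ i : Fin r, dif (hM' i.succ)) +
          (∏ i : Fin r, dif (hM' i.succ)) * (dif (hM 0) - dif (hM' 0)) := by
      rw [Fin.prod_univ_succ, Fin.prod_univ_succ]
      ring
    rw [e]
    refine Kills.add k (kill_succ k (ih (fun i => M i.succ) (fun i => M' i.succ) (fun i => hM i.succ)
      (fun i => hM' i.succ) fun i => hnum i.succ) (hM 0)) ?_
    have h := kills_prod k (kills_two k (hM 0) (hM' 0) (hnum 0)) (fun i : Fin r => M' i.succ) fun i => hM' i.succ
    rwa [show 2 + r = r + 1 + 1 by omega] at h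

end Groth.Agent.IntLib
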